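import Cfsg.Agent.Spor.Chk

set_option autoImplicit false
set_option maxRecDepth 100000000
set_option Elab.async false
noncomputable section

namespace Cfsg.Agent.Spor.Fi27

def m0_0 : Nat := nat_lit 0x400
def m0_1 : Nat := nat_lit 0x101000
def m0_2 : Nat := nat_lit 0x54401
def m0_3 : Nat := nat_lit 0x1000
def m0_4 : Nat := nat_lit 0x400
def n0 : Net := Net.cons 4 m0_0 (Net.cons 2 m0_1 (Net.cons 1 m0_2 (Net.cons 2 m0_3 (Net.cons 4 m0_4 (Net.nil)))))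

def m1_0 : Nat := nat_lit 0x1
def m1_1 : Nat := nat_lit 0x1
def m1_2 : Nat := nat_lit 0x20100
def m1_3 : Nat := nat_lit 0x20301
def m1_4 : Nat := nat_lit 0x401001
def m1_5 : Nat := nat_lit 0x1
def m1_6 : Nat := nat_lit 0x20100
def m1_7 : Nat := nat_lit 0x1
def m1_8 : Nat := nat_lit 0x1
def n1 : Net := Net.cons 16 m1_0 (Net.cons 8 m1_1 (Net.cons 4 m1_2 (Net.cons 2 m1_3 (Net.cons 1 m1_4 (Net.cons 2 m1_5 (Net.cons 4 m1_6 (Net.cons 8 m1_7 (Net.cons 16 m1_8 (Net.nil)))))))))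

def m2_0 : Nat := nat_lit 0x800002
def m2_1 : Nat := nat_lit 0x1000002
def m2_2 : Nat := nat_lit 0x10030120
def m2_3 : Nat := nat_lit 0x40000004
def m2_4 : Nat := nat_lit 0x10000000
def m2_5 : Nat := nat_lit 0x1000002
def m2_6 : Nat := nat_lit 0x800002
def n2 : Net := Net.cons 8 m2_0 (Net.cons 4 m2_1 (Net.cons 2 m2_2 (Net.cons 1 m2_3 (Net.cons 2 m2_4 (Net.cons 4 m2_5 (Net.cons 8 m2_6 (Net.nil)))))))

def m3_0 : Nat := nat_lit 0x3
def m3_1 : Nat := nat_lit 0x3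
def m3_2 : Nat := nat_lit 0x301
def m3_3 : Nat := nat_lit 0x2121
def m3_4 : Nat := nat_lit 0x1000104
def m3_5 : Nat := nat_lit 0x101
def m3_6 : Nat := nat_lit 0x201
def m3_7 : Nat := nat_lit 0x3
def m3_8 : Nat := nat_lit 0x3
def n3 : Net := Net.cons 16 m3_0 (Net.cons 8 m3_1 (Net.cons 4 m3_2 (Net.cons 2 m3_3 (Net.cons 1 m3_4 (Net.cons 2 m3_5 (Net.cons 4 m3_6 (Net.cons 8 m3_7 (Net.cons 16 m3_8 (Net.nil)))))))))

def m4_0 : Nat := nat_lit 0x1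
def m4_1 : Nat := nat_lit 0x108
def m4_2 : Nat := nat_lit 0x1000311
def m4_3 : Nat := nat_lit 0x1004504
def m4_4 : Nat := nat_lit 0x1000001
def m4_5 : Nat := nat_lit 0x108
def m4_6 : Nat := nat_lit 0x1
def n4 : Net := Net.cons 8 m4_0 (Net.cons 4 m4_1 (Net.cons 2 m4_2 (Net.cons 1 m4_3 (Net.cons 2 m4_4 (Net.cons 4 m4_5 (Net.cons 8 m4_6 (Net.nil)))))))

def m5_0 : Nat := nat_lit 0x1
def m5_1 : Nat := nat_lit 0x40006
def m5_2 : Nat := nat_lit 0x300013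
def m5_3 : Nat := nat_lit 0x40040
def m5_4 : Nat := nat_lit 0x10
def m5_5 : Nat := nat_lit 0x40006
def m5_6 : Nat := nat_lit 0x1
def n5 : Net := Net.cons 8 m5_0 (Net.cons 4 m5_1 (Net.cons 2 m5_2 (Net.cons 1 m5_3 (Net.cons 2 m5_4 (Net.cons 4 m5_5 (Net.cons 8 m5_6 (Net.nil)))))))

def ip1 : List Nat := [0x253e1b2, 0x3af261c, 0x4f001e4]
def l1 : Let := ⟨0, false, 0x7ffffff, 0xc002, [0x52cc4ca, 0x18f070c, 0x65007f0, 0x7a02000]⟩

def ip2 : List Nat := [0x422d844, 0x7052058, 0x1d6c1a8]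
def l2 : Let := ⟨1, false, 0x7ffffff, 0x201804, [0x53258cc, 0x1c16108, 0x60041f0, 0x7168000]⟩

def ip3 : List Nat := [0x70c2658, 0x450c062, 0x2703830]
def l3 : Let := ⟨2, false, 0x7ffffff, 0x10c0608, [0x51c7648, 0x607802, 0x6007870, 0x6708000]⟩

def ip4 : List Nat := [0x22f2a14, 0x4204946, 0x4dc03e0]
def l4 : Let := ⟨3, false, 0x7ffffff, 0x2032010, [0x69b6254, 0xe049a6, 0x4004b40, 0x4fc0000]⟩

def ip5 : List Nat := [0x4f019e4, 0x23f806, 0x1df27a8]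
def l5 : Let := ⟨4, false, 0x7ffffff, 0x4000040, [0x499c664, 0xe12786, 0x101f828, 0x1fe0000]⟩

def ip6 : List Nat := [0x4d019a4, 0x100de06, 0x7032600]
def l6 : Let := ⟨5, false, 0x7ffffff, 0xd001a0, [0x5d273a4, 0x1007c06, 0x6007e00, 0x7038000]⟩

def NT : List Net := [n0, n1, n2, n3, n4, n5]
def LT : List Let := [⟨0, false, 0, 0, []⟩, l1, l2, l3, l4, l5, l6]
def T : Tab := ⟨NT, LT⟩
def EX : List (List Nat) := [[], [0], [2], [4], [6], [8], [10]]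
def RL : List (List Nat) := [[0, 2, 0, 2, 0, 2], [0, 4, 0, 4], [0, 6, 0, 6], [0, 8, 0, 8], [0, 10, 0, 10], [2, 4, 2, 4, 2, 4], [2, 6, 2, 6], [2, 8, 2, 8], [2, 10, 2, 10], [4, 6, 4, 6, 4, 6], [4, 8, 4, 8], [4, 10, 4, 10, 4, 10], [6, 8, 6, 8, 6, 8], [6, 10, 6, 10], [8, 10, 8, 10]]
def XL : List (List Nat) := []
def BW : List (List Nat) := [[2], [4], [6], [8], [10]]
def IV : Nat := 0x6050403020100
def L : List Nat := [1, 2, 3, 4, 5, 6]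
def gs : List Nat := [1, 2, 3, 4, 5, 6]
def base : List Nat := [2, 3, 4, 5, 6]

end Cfsg.Agent.Spor.Fi27
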